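import Mathlib

/-!
Degree argument showing that a non-trivial word takes a non-scalar value on conjugates
`P i * diag (t ^ e) * (P i)⁻¹` of a one-parameter diagonal matrix.
-/

set_option autoImplicit false

namespace CfsgLib.WordLaws

open Polynomial Matrix

/-- Exponents of a diagonal one-parameter matrix with a unique largest and a unique smallest one. -/
structure ExpData (n : Type*) where
  e : n → ℕ
  N : ℕ
  T : n
  B : n
  hT : e T = N
  hB : e B = 0
  hpos : ∀ k, k ≠ B → 0 < e k
  hlt : ∀ k, k ≠ T → e k < N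

variable {n : Type*} [Fintype n] [DecidableEq n] {F : Type*} [Field F] (E : ExpData n)

omit [Fintype n] [DecidableEq n] in
theorem ExpData.e_le (k : n) : E.e k ≤ E.N := by
  classical
  rcases eq_or_ne k E.T with h | h
  · rw [h, E.hT]
  · exact (E.hlt k h).le

/-- Exponent for a letter of given sign. -/
def sgnExp (s : Bool) (k : n) : ℕ := if s then E.e k else E.N - E.e k

/-- Dominant coordinate for a letter of given sign. -/
def corner (s : Bool) : n := if s then E.T else E.B

omit [Fintype n] [DecidableEq n] in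
theorem sgnExp_le (s : Bool) (k : n) : sgnExp E s k ≤ E.N := by
  classical
  cases s <;> simp only [sgnExp, Bool.false_eq_true, if_true, if_false]
  · omega
  · rcases eq_or_ne k E.T with h | h
    · rw [h, E.hT]
    · exact (E.hlt k h).le

omit [Fintype n] [DecidableEq n] in
theorem sgnExp_corner (s : Bool) : sgnExp E s (corner E s) = E.N := by
  cases s <;> simp [sgnExp, corner, E.hT, E.hB]

omit [Fintype n] [DecidableEq n] in
theorem sgnExp_lt (s : Bool) (k : n) (hk : k ≠ corner E s) : sgnExp E s k < E.N := by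
  cases s
  · simp only [sgnExp, corner, Bool.false_eq_true, if_false] at *
    have := E.hpos k hk
    have : 0 < E.N := by
      classical
      rcases eq_or_ne k E.T with h | h
      · rw [h, E.hT] at this; exact this
      · exact lt_of_le_of_lt (Nat.zero_le _) (E.hlt k h)
    omega
  · simp only [sgnExp, corner, if_true] at *
    exact E.hlt k hk

variable (F) in
/-- The polynomial diagonal matrix of a letter. -/
noncomputable def dmat (s : Bool) : Matrix n n F[X] := Matrix.diagonal fun k => X ^ sgnExp E s k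

/-- The inner product of a letter list, with the outer conjugating matrices removed. -/
noncomputable def inner (P : ℕ → GL n F) :
    ℕ × Bool → List (ℕ × Bool) → Matrix n n F[X]
  | a, [] => dmat F E a.2
  | a, b :: l => dmat F E a.2 *
      ((((P a.1)⁻¹ * P b.1 : GL n F) : Matrix n n F).map C * inner P b l)

/-- Compatibility of the conjugating matrices on a set of generators. -/
def Generic (S : Finset ℕ) (P : ℕ → GL n F) : Prop :=
  ∀ i ∈ S, ∀ j ∈ S, i ≠ j → ∀ s s' : Bool,
    (((P i)⁻¹ * P j : GL n F) : Matrix n n F) (corner E s) (corner E s') ≠ 0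

theorem entry_ne_zero {S : Finset ℕ} {P : ℕ → GL n F} (hP : Generic E S P) {a b : ℕ × Bool}
    (ha : a.1 ∈ S) (hb : b.1 ∈ S) (hab : a.1 = b.1 → a.2 = b.2) :
    (((P a.1)⁻¹ * P b.1 : GL n F) : Matrix n n F) (corner E a.2) (corner E b.2) ≠ 0 := by
  rcases eq_or_ne a.1 b.1 with h | h
  · rw [h, hab h, inv_mul_cancel, Units.val_one, Matrix.one_apply_eq]
    exact one_ne_zero
  · exact hP _ ha _ hb h _ _

theorem inner_spec {S : Finset ℕ} {P : ℕ → GL n F} (hP : Generic E S P) :
    ∀ (l : List (ℕ × Bool)) (a : ℕ × Bool), FreeGroup.IsReduced (a :: l) →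
      (∀ b ∈ a :: l, b.1 ∈ S) →
      (∀ i j, (inner E P a l i j).natDegree ≤ E.N * (l.length + 1)) ∧
      ∃ (j₀ : n) (c : F), c ≠ 0 ∧ ∀ i j, (inner E P a l i j).coeff (E.N * (l.length + 1)) =
        if i = corner E a.2 ∧ j = j₀ then c else 0 := by
  intro l
  induction l with
  | nil =>
    intro a _ _
    constructor
    · intro i j
      simp only [inner, dmat, Matrix.diagonal_apply, List.length_nil, zero_add, mul_one]
      split_ifs
      · rw [natDegree_X_pow]; exact sgnExp_le E _ _
      · simp
    · refine ⟨corner E a.2, 1, one_ne_zero, fun i j => ?_⟩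
      simp only [inner, dmat, Matrix.diagonal_apply, List.length_nil, zero_add, mul_one]
      by_cases h : i = j
      · subst h
        by_cases hi : i = corner E a.2
        · simp [hi, sgnExp_corner, coeff_X_pow]
        · simp [hi, coeff_X_pow, (sgnExp_lt E a.2 i hi).ne']
      · rw [if_neg h, coeff_zero, if_neg]
        rintro ⟨rfl, rfl⟩
        exact h rfl
  | cons b l ih =>
    intro a hred hS
    rw [FreeGroup.isReduced_cons_cons] at hred
    obtain ⟨hab, hbl⟩ := hred
    obtain ⟨hdeg, j₀, c, hc, hcoef⟩ := ih b hbl (fun x hx => hS x (List.mem_cons_of_mem _ hx))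
    set M : Matrix n n F := (((P a.1)⁻¹ * P b.1 : GL n F) : Matrix n n F) with hM
    set K := E.N * (l.length + 1) with hK
    have hlen : E.N * ((b :: l).length + 1) = K + E.N := by
      rw [List.length_cons, hK, mul_add, mul_one]
    have hentry : ∀ i j, inner E P a (b :: l) i j =
        (∑ k, C (M i k) * inner E P b l k j) * X ^ sgnExp E a.2 i := by
      intro i j
      rw [inner, dmat, Matrix.diagonal_mul, Matrix.mul_apply, mul_comm]
      simp [hM]
    have hsum : ∀ i j, (∑ k, C (M i k) * inner E P b l k j).natDegree ≤ K := fun i j =>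
      natDegree_sum_le_of_forall_le _ _ fun k _ => (natDegree_C_mul_le _ _).trans (hdeg k j)
    constructor
    · intro i j
      rw [hentry, hlen]
      exact natDegree_mul_le.trans (add_le_add (hsum i j) (by rw [natDegree_X_pow]; exact sgnExp_le E _ _))
    · refine ⟨j₀, M (corner E a.2) (corner E b.2) * c, mul_ne_zero
        (entry_ne_zero E hP (hS a List.mem_cons_self)
          (hS b (List.mem_cons_of_mem _ List.mem_cons_self)) hab) hc, fun i j => ?_⟩
      rw [hentry, hlen]
      by_cases hi : i = corner E a.2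
      · subst hi
        rw [sgnExp_corner, coeff_mul_X_pow, finsetSum_coeff]
        simp only [coeff_C_mul, hcoef]
        by_cases hj : j = j₀
        · simp [hj]
        · simp [hj]
      · rw [if_neg (fun h => hi h.1)]
        apply coeff_eq_zero_of_natDegree_lt
        refine lt_of_le_of_lt natDegree_mul_le ?_
        rw [natDegree_X_pow]
        exact add_lt_add_of_le_of_lt (hsum i j) (sgnExp_lt E _ _ hi)

omit [Fintype n] in
theorem eval_diag (s : Bool) (t : F) :
    (dmat F E s).map (eval t) = Matrix.diagonal fun k => t ^ sgnExp E s k := by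
  rw [dmat, Matrix.diagonal_map (by simp)]
  simp

/-- Value of a word list under a homomorphism to matrices. -/
theorem prod_letters {H : Type*} [Group H] (ρ : H →* Matrix n n F) (f : ℕ → H)
    (P : ℕ → GL n F) {t : F} (ht : t ≠ 0) {S : Finset ℕ}
    (hf : ∀ i ∈ S, ∃ c : F, ρ (f i) = c • ((P i : Matrix n n F) *
      Matrix.diagonal (fun k => t ^ E.e k) * ((P i)⁻¹ : GL n F))) [Nonempty n] :
    ∀ (l : List (ℕ × Bool)) (a : ℕ × Bool), (∀ b ∈ a :: l, b.1 ∈ S) →
      ∃ (c : F) (M0 : GL n F), c ≠ 0 ∧ M0 = (P a.1)⁻¹ * P ((a :: l).getLast (by simp)).1 ∧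
        ρ (((a :: l).map fun x => cond x.2 (f x.1) (f x.1)⁻¹).prod) *
            (P ((a :: l).getLast (by simp)).1 : Matrix n n F) =
          c • ((P a.1 : Matrix n n F) * (inner E P a l).map (eval t)) := by
  have letter : ∀ a : ℕ × Bool, a.1 ∈ S → ∃ c : F, c ≠ 0 ∧
      ρ (cond a.2 (f a.1) (f a.1)⁻¹) = c • ((P a.1 : Matrix n n F) *
        (dmat F E a.2).map (eval t) * ((P a.1)⁻¹ : GL n F)) := by
    rintro ⟨i, s⟩ hi
    obtain ⟨c, hc⟩ := hf i hi
    have hinv : ρ (f i) * ρ (f i)⁻¹ = 1 := by rw [← map_mul, mul_inv_cancel, map_one]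
    have hc0 : c ≠ 0 := by
      rintro rfl
      rw [hc, zero_smul, zero_mul] at hinv
      exact zero_ne_one hinv
    cases s
    · refine ⟨c⁻¹ * (t ^ E.N)⁻¹, mul_ne_zero (inv_ne_zero hc0) (inv_ne_zero (pow_ne_zero _ ht)), ?_⟩
      simp only [cond_false, eval_diag]
      symm
      refine (left_inv_eq_right_inv ?_ hinv)
      rw [hc, smul_mul_assoc, mul_smul_comm, smul_smul]
      have hd : Matrix.diagonal (fun k => t ^ sgnExp E false k) *
          Matrix.diagonal (fun k => t ^ E.e k) = (t ^ E.N) • (1 : Matrix n n F) := by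
        rw [Matrix.diagonal_mul_diagonal, Matrix.smul_one_eq_diagonal]
        congr 1
        funext k
        simp only [sgnExp, Bool.false_eq_true, if_false]
        rw [← pow_add, Nat.sub_add_cancel (E.e_le k)]
      calc _ = (c⁻¹ * (t ^ E.N)⁻¹ * c) • ((P i : Matrix n n F) *
            Matrix.diagonal (fun k => t ^ sgnExp E false k) *
            (((P i)⁻¹ : GL n F) : Matrix n n F) * (P i : Matrix n n F) *
            Matrix.diagonal (fun k => t ^ E.e k) * ((P i)⁻¹ : GL n F)) := by
              simp only [mul_assoc]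
        _ = (c⁻¹ * (t ^ E.N)⁻¹ * c) • ((P i : Matrix n n F) *
            ((t ^ E.N) • (1 : Matrix n n F)) * ((P i)⁻¹ : GL n F)) := by
              rw [← hd]
              congr 1
              simp [mul_assoc]
        _ = (1 : Matrix n n F) := by
              rw [mul_smul_comm, mul_one, smul_mul_assoc, smul_smul, Units.mul_inv]
              field_simp
              simp
    · refine ⟨c, hc0, ?_⟩
      simp only [cond_true, eval_diag, hc, sgnExp, if_true]
  intro l
  induction l with
  | nil =>
    intro a hS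
    obtain ⟨c, hc, h⟩ := letter a (hS a (by simp))
    refine ⟨c, 1, hc, by simp, ?_⟩
    simp only [List.map_cons, List.map_nil, List.prod_cons, List.prod_nil, mul_one,
      List.getLast_singleton, inner, h, smul_mul_assoc, mul_assoc, Units.inv_mul]
  | cons b l ih =>
    intro a hS
    obtain ⟨c, M0, hc, -, h⟩ := ih b (fun x hx => hS x (List.mem_cons_of_mem _ hx))
    obtain ⟨c', hc', h'⟩ := letter a (hS a (by simp))
    refine ⟨c' * c, _, mul_ne_zero hc' hc, rfl, ?_⟩
    rw [List.getLast_cons (List.cons_ne_nil b l), List.map_cons, List.prod_cons, map_mul, mul_assoc,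
      h, h', smul_mul_assoc, mul_smul_comm, smul_smul]
    congr 1
    have hmap : (inner E P a (b :: l)).map (eval t) = (dmat F E a.2).map (eval t) *
        ((((P a.1)⁻¹ * P b.1 : GL n F) : Matrix n n F) * (inner E P b l).map (eval t)) := by
      rw [inner, ← coe_evalRingHom, Matrix.map_mul, Matrix.map_mul, Matrix.map_map]
      congr 2
      ext i j
      simp
    rw [hmap, Units.val_mul]
    simp only [mul_assoc]

/-- Generators occurring in a word. -/
def wordGens (w : FreeGroup ℕ) : Finset ℕ := (w.toWord.map Prod.fst).toFinset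

theorem mem_wordGens {w : FreeGroup ℕ} {b : ℕ × Bool} (h : b ∈ w.toWord) : b.1 ∈ wordGens w :=
  List.mem_toFinset.2 (List.mem_map_of_mem h)

/-- Main lemma: outside the roots of one polynomial of bounded degree, the word is non-scalar. -/
theorem exists_poly_nonscalar [Nontrivial n] (w : FreeGroup ℕ) (hw : w ≠ 1) (P : ℕ → GL n F)
    (hP : Generic E (wordGens w) P) :
    ∃ p : F[X], p ≠ 0 ∧ p.natDegree ≤ E.N * w.toWord.length ∧
      ∀ t : F, t ≠ 0 → p.eval t ≠ 0 → ∀ (H : Type*) [Group H] (ρ : H →* Matrix n n F) (f : ℕ → H),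
        (∀ i ∈ wordGens w, ∃ c : F, ρ (f i) = c • ((P i : Matrix n n F) *
            Matrix.diagonal (fun k => t ^ E.e k) * ((P i)⁻¹ : GL n F))) →
        ∀ d : F, ρ (FreeGroup.lift f w) ≠ d • (1 : Matrix n n F) := by
  obtain ⟨a, l, hal⟩ := List.exists_cons_of_ne_nil (mt FreeGroup.toWord_eq_nil_iff.1 hw)
  have hred : FreeGroup.IsReduced (a :: l) := hal ▸ FreeGroup.isReduced_toWord
  have hS : ∀ b ∈ a :: l, b.1 ∈ wordGens w := fun b hb => mem_wordGens (hal ▸ hb)
  obtain ⟨hdeg, j₀, c, hc, hcoef⟩ := inner_spec E hP l a hred hS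
  set M0 : GL n F := (P a.1)⁻¹ * P ((a :: l).getLast (by simp)).1 with hM0
  obtain ⟨i₁, hi₁⟩ := exists_ne (corner E a.2)
  obtain ⟨j₁, hj₁⟩ : ∃ j, (M0 : Matrix n n F) i₁ j ≠ 0 := by
    by_contra! h
    have := congrFun (congrFun (Units.mul_inv M0) i₁) i₁
    simp [Matrix.mul_apply, h] at this
  set i₀ := corner E a.2
  refine ⟨inner E P a l i₀ j₀ * C ((M0 : Matrix n n F) i₁ j₁) -
    inner E P a l i₁ j₁ * C ((M0 : Matrix n n F) i₀ j₀), ?_, ?_, ?_⟩
  · intro h
    have := congrArg (fun p => coeff p (E.N * (l.length + 1))) h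
    simp only [coeff_sub, coeff_mul_C, coeff_zero, hcoef, hi₁, false_and, if_false, i₀, and_self,
      if_true, zero_mul, sub_zero] at this
    exact mul_ne_zero hc hj₁ this
  · rw [hal, List.length_cons]
    exact (natDegree_sub_le _ _).trans (max_le ((natDegree_mul_C_le _ _).trans (hdeg _ _))
      ((natDegree_mul_C_le _ _).trans (hdeg _ _)))
  · intro t ht hev H _ ρ f hf d hd
    apply hev
    obtain ⟨c', M0', hc', -, h⟩ := prod_letters E ρ f P ht hf l a hS
    rw [← FreeGroup.mk_toWord (x := w), hal, FreeGroup.lift_mk] at hd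
    rw [hd, smul_mul_assoc, one_mul] at h
    have hinner : c' • (inner E P a l).map (eval t) = d • (M0 : Matrix n n F) := by
      have := congrArg (fun M => (((P a.1)⁻¹ : GL n F) : Matrix n n F) * M) h
      simp only [mul_smul_comm, ← mul_assoc, Units.inv_mul, one_mul] at this
      rw [hM0, Units.val_mul]
      exact this.symm
    have e0 := congrFun (congrFun hinner i₀) j₀
    have e1 := congrFun (congrFun hinner i₁) j₁
    simp only [Matrix.smul_apply, Matrix.map_apply, smul_eq_mul] at e0 e1
    simp only [eval_sub, eval_mul, eval_C]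
    refine (mul_right_inj' hc').1 ?_
    rw [mul_zero, mul_sub, ← mul_assoc, ← mul_assoc, e0, e1]
    ring

end CfsgLib.WordLaws
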