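import Mathlib
import Cfsg.Agent.Lib.WordLaws.Degree

/-!
A non-trivial word is non-scalar on commutators in `SL₂` of a large finite field, and is not a law
in large alternating groups.
-/

set_option autoImplicit false

namespace CfsgLib.WordLaws

open Polynomial Matrix

theorem lift_comp_hom {α H K : Type*} [Group H] [Group K] (φ : H →* K) (f : α → H) (w : FreeGroup α) :
    φ (FreeGroup.lift f w) = FreeGroup.lift (fun i => φ (f i)) w := by
  have : φ.comp (FreeGroup.lift f) = FreeGroup.lift (fun i => φ (f i)) := by ext i; simp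
  exact DFunLike.congr_fun this w

/-- A nonzero element avoiding the roots of a polynomial of small degree. -/
theorem exists_nonroot {F : Type*} [Field F] [Fintype F] (p : F[X]) (hp : p ≠ 0) (D : ℕ)
    (hD : p.natDegree ≤ D) (hF : D + 1 < Fintype.card F) : ∃ t : F, t ≠ 0 ∧ p.eval t ≠ 0 := by
  have hne : p * X ≠ 0 := mul_ne_zero hp X_ne_zero
  have hdeg : (p * X).natDegree < (Finset.univ : Finset F).card := by
    rw [natDegree_mul hp X_ne_zero, natDegree_X, Finset.card_univ]; omega
  obtain ⟨t, -, ht⟩ : ∃ t ∈ (Finset.univ : Finset F), (p * X).eval t ≠ 0 := by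
    by_contra! h
    exact hne (eq_zero_of_natDegree_lt_card_of_eval_eq_zero' _ _ h hdeg)
  refine ⟨t, ?_, ?_⟩ <;> intro h <;> simp [h] at ht

/-- Exponents `(4, 0)`. -/
def expSL2 : ExpData (Fin 2) where
  e := ![4, 0]
  N := 4
  T := 0
  B := 1
  hT := rfl
  hB := rfl
  hpos := by decide
  hlt := by decide

/-- Conjugation of `SL₂` by an element of `GL₂`. -/
def conjSL {F : Type*} [Field F] (P : GL (Fin 2) F) :
    Matrix.SpecialLinearGroup (Fin 2) F →* Matrix.SpecialLinearGroup (Fin 2) F where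
  toFun A := ⟨(P : Matrix (Fin 2) (Fin 2) F) * (A : Matrix (Fin 2) (Fin 2) F) *
    ((P⁻¹ : GL (Fin 2) F) : Matrix (Fin 2) (Fin 2) F), by
      rw [Matrix.det_units_conj, A.2]⟩
  map_one' := by ext1; simp
  map_mul' A B := by
    apply Subtype.ext
    change (P : Matrix (Fin 2) (Fin 2) F) * ((A : Matrix (Fin 2) (Fin 2) F) * B) * _ =
      ((P : Matrix (Fin 2) (Fin 2) F) * (A : Matrix (Fin 2) (Fin 2) F) * _) *
        ((P : Matrix (Fin 2) (Fin 2) F) * (B : Matrix (Fin 2) (Fin 2) F) * _)
    simp [mul_assoc]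

/-- `diag (t, t⁻¹)`. -/
def diagSL {F : Type*} [Field F] (t : F) (ht : t ≠ 0) : Matrix.SpecialLinearGroup (Fin 2) F :=
  ⟨!![t, 0; 0, t⁻¹], by simp [Matrix.det_fin_two, ht]⟩

/-- The standard Weyl element. -/
def weylSL (F : Type*) [Field F] : Matrix.SpecialLinearGroup (Fin 2) F :=
  ⟨!![0, 1; -1, 0], by simp [Matrix.det_fin_two]⟩

theorem commutator_diag_weyl {F : Type*} [Field F] (t : F) (ht : t ≠ 0) :
    (((diagSL t ht * weylSL F * (diagSL t ht)⁻¹ * (weylSL F)⁻¹ :
      Matrix.SpecialLinearGroup (Fin 2) F)) : Matrix (Fin 2) (Fin 2) F) =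
      (t ^ 2)⁻¹ • Matrix.diagonal (fun k => t ^ expSL2.e k) := by
  rw [Matrix.SpecialLinearGroup.coe_mul, Matrix.SpecialLinearGroup.coe_mul,
    Matrix.SpecialLinearGroup.coe_mul, Matrix.SpecialLinearGroup.coe_inv,
    Matrix.SpecialLinearGroup.coe_inv]
  ext i j
  fin_cases i <;> fin_cases j <;>
    simp [diagSL, weylSL, Matrix.adjugate_fin_two, expSL2] <;> field_simp

/-- For a large finite field a non-trivial word takes a non-scalar value on commutators of `SL₂`. -/
theorem sl2_nonscalar (w : FreeGroup ℕ) (hw : w ≠ 1) :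
    ∃ N : ℕ, ∀ (F : Type*) [Field F] [Fintype F], N ≤ Fintype.card F →
      ∃ f : ℕ → Matrix.SpecialLinearGroup (Fin 2) F,
        (∀ i, f i ∈ commutator (Matrix.SpecialLinearGroup (Fin 2) F)) ∧
        ∀ d : F, ((FreeGroup.lift f w : Matrix.SpecialLinearGroup (Fin 2) F) :
          Matrix (Fin 2) (Fin 2) F) ≠ d • (1 : Matrix (Fin 2) (Fin 2) F) := by
  classical
  set K := (wordGens w).sup id + 1
  refine ⟨max (2 * K) (4 * w.toWord.length + 2), fun F _ _ hF => ?_⟩
  obtain ⟨φ⟩ : Nonempty (Fin (2 * K) ↪ F) :=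
    Function.Embedding.nonempty_of_card_le (by simpa using (le_max_left _ _).trans hF)
  have hdet : ∀ i : Fin K, (!![1, 1; φ ⟨2 * i.1, by omega⟩, φ ⟨2 * i.1 + 1, by omega⟩] :
      Matrix (Fin 2) (Fin 2) F).det ≠ 0 := by
    intro i
    simp only [Matrix.det_fin_two_of, one_mul, sub_ne_zero]
    intro h
    have := congrArg Fin.val (φ.injective h)
    simp at this
  let P : ℕ → GL (Fin 2) F := fun i => if h : i < K then
    Matrix.GeneralLinearGroup.mkOfDetNeZero _ (hdet ⟨i, h⟩) else 1
  have hlt : ∀ i ∈ wordGens w, i < K := fun i hi => Nat.lt_succ_of_le (Finset.le_sup (f := id) hi)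
  have hP : Generic expSL2 (wordGens w) P := by
    intro i hi j hj hij s s' h0
    have hne : ∀ a b : ℕ, ∀ (ha : a < 2 * K) (hb : b < 2 * K), a ≠ b →
        φ ⟨a, ha⟩ - φ ⟨b, hb⟩ ≠ 0 := fun a b ha hb hab =>
      sub_ne_zero.2 fun h => hab (congrArg Fin.val (φ.injective h))
    have hi' := hlt i hi
    have hj' := hlt j hj
    rw [Units.val_mul, Matrix.coe_units_inv] at h0
    simp only [P, dif_pos hi', dif_pos hj', Matrix.GeneralLinearGroup.mkOfDetNeZero,
      Matrix.inv_def, Matrix.adjugate_fin_two, Matrix.smul_mul, Matrix.smul_apply,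
      smul_eq_mul, mul_eq_zero] at h0
    rcases h0 with h0 | h0
    · have := hdet ⟨i, hi'⟩
      simp at h0
      exact hne (2 * i + 1) (2 * i) (by omega) (by omega) (by omega) h0
    · cases s <;> cases s' <;> simp [corner, expSL2, Matrix.mul_apply, Fin.sum_univ_two] at h0
      · exact hne (2 * j + 1) (2 * i) (by omega) (by omega) (by omega) (by linear_combination h0)
      · exact hne (2 * j) (2 * i) (by omega) (by omega) (by omega) (by linear_combination h0)
      · exact hne (2 * i + 1) (2 * j + 1) (by omega) (by omega) (by omega) (by linear_combination h0)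
      · exact hne (2 * i + 1) (2 * j) (by omega) (by omega) (by omega) (by linear_combination h0)
  obtain ⟨p, hp, hdeg, hgood⟩ := exists_poly_nonscalar expSL2 w hw P hP
  obtain ⟨t, ht, hev⟩ := exists_nonroot p hp _ hdeg (by
    simp only [expSL2]; have := (le_max_right _ _).trans hF; omega)
  let f : ℕ → Matrix.SpecialLinearGroup (Fin 2) F := fun i =>
    conjSL (P i) (diagSL t ht * weylSL F * (diagSL t ht)⁻¹ * (weylSL F)⁻¹)
  refine ⟨f, fun i => ?_, ?_⟩
  · simp only [f, map_mul, map_inv]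
    exact Subgroup.commutator_mem_commutator (Subgroup.mem_top _) (Subgroup.mem_top _)
  · intro d hd
    refine hgood t ht hev (Matrix.SpecialLinearGroup (Fin 2) F)
      (((Units.coeHom (Matrix (Fin 2) (Fin 2) F))).comp Matrix.SpecialLinearGroup.toGL) f
      (fun i _ => ⟨(t ^ 2)⁻¹, ?_⟩) d hd
    simp only [f, conjSL, MonoidHom.comp_apply, Units.coeHom_apply]
    change (P i : Matrix (Fin 2) (Fin 2) F) *
      ((diagSL t ht * weylSL F * (diagSL t ht)⁻¹ * (weylSL F)⁻¹ :
        Matrix.SpecialLinearGroup (Fin 2) F) : Matrix (Fin 2) (Fin 2) F) * _ = _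
    rw [commutator_diag_weyl t ht, mul_smul_comm, smul_mul_assoc]

/-- A permutation of `α`, doubled, as an even permutation of `α ⊕ α` transported into `Fin n`. -/
noncomputable def doubleToAlternating (α : Type*) [Fintype α] [DecidableEq α] (n : ℕ)
    (ι : α ⊕ α ↪ Fin n) : Equiv.Perm α →* alternatingGroup (Fin n) :=
  MonoidHom.codRestrict
    ((Equiv.Perm.viaEmbeddingHom ι).comp ((Equiv.Perm.sumCongrHom α α).comp
      (MonoidHom.prod (MonoidHom.id _) (MonoidHom.id _)))) _ (fun g => by
    classical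
    rw [Equiv.Perm.mem_alternatingGroup]
    simp only [MonoidHom.comp_apply, Equiv.Perm.viaEmbeddingHom_apply]
    rw [Equiv.Perm.viaEmbedding, Equiv.Perm.sign_extendDomain]
    simp only [Equiv.Perm.sumCongrHom_apply, MonoidHom.prod_apply, MonoidHom.id_apply,
      Equiv.Perm.sign_sumCongr, Int.units_mul_self])

/-- A non-trivial word is a law in only finitely many alternating groups. -/
theorem alternating_nontrivial (w : FreeGroup ℕ) (hw : w ≠ 1) :
    ∃ N : ℕ, ∀ n : ℕ, N ≤ n → ∃ f : ℕ → alternatingGroup (Fin n), FreeGroup.lift f w ≠ 1 := by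
  classical
  obtain ⟨N, hN⟩ := sl2_nonscalar.{0} w hw
  obtain ⟨p, hpN, hp⟩ := Nat.exists_infinite_primes N
  have : Fact p.Prime := ⟨hp⟩
  obtain ⟨f, -, hf⟩ := hN (ZMod p) (by rw [ZMod.card]; exact hpN)
  refine ⟨2 * Fintype.card (Matrix.SpecialLinearGroup (Fin 2) (ZMod p)), fun n hn => ?_⟩
  obtain ⟨ι⟩ : Nonempty (Matrix.SpecialLinearGroup (Fin 2) (ZMod p) ⊕
      Matrix.SpecialLinearGroup (Fin 2) (ZMod p) ↪ Fin n) :=
    Function.Embedding.nonempty_of_card_le (by simpa [two_mul] using hn)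
  set L := MulAction.toPermHom (Matrix.SpecialLinearGroup (Fin 2) (ZMod p))
    (Matrix.SpecialLinearGroup (Fin 2) (ZMod p))
  refine ⟨fun i => doubleToAlternating _ n ι (L (f i)), ?_⟩
  intro h
  have hcomp := lift_comp_hom ((doubleToAlternating _ n ι).comp L) f w
  simp only [MonoidHom.comp_apply] at hcomp
  rw [← hcomp] at h
  apply hf 1
  have hinj : Function.Injective ((doubleToAlternating _ n ι).comp L) := by
    intro a b hab
    have h2 := Equiv.Perm.viaEmbeddingHom_injective ι (congrArg Subtype.val hab)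
    exact MulAction.toPerm_injective (congrArg Prod.fst (Equiv.Perm.sumCongrHom_injective h2))
  rw [hinj (h.trans (map_one _).symm)]
  simp

end CfsgLib.WordLaws
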