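import Mathlib
import Cfsg.Agent.Lib.WordLaws.SL2

/-!
Witnesses that a word is not a law modulo the centre, their transfer along injective
homomorphisms, and the two basic families of witnesses.
-/

set_option autoImplicit false

namespace CfsgLib.WordLaws

open Matrix

/-- Some substitution from the derived subgroup gives a value not commuting with an element of the
derived subgroup. -/
def Witness (w : FreeGroup ℕ) (H : Type*) [Group H] : Prop :=
  ∃ (f : ℕ → H) (u : H), (∀ i, f i ∈ commutator H) ∧ u ∈ commutator H ∧
    ¬ Commute (FreeGroup.lift f w) u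

theorem Witness.map {w : FreeGroup ℕ} {H K : Type*} [Group H] [Group K] (h : Witness w H)
    (φ : H →* K) (hφ : Function.Injective φ) : Witness w K := by
  obtain ⟨f, u, hf, hu, hc⟩ := h
  have hmem : ∀ x ∈ commutator H, φ x ∈ commutator K := fun x hx => by
      have : (commutator H).map φ ≤ commutator K := by
        rw [commutator_def, Subgroup.map_commutator]
        exact Subgroup.commutator_mono le_top le_top
      exact this (Subgroup.mem_map_of_mem φ hx)
  refine ⟨fun i => φ (f i), φ u, fun i => hmem _ (hf i), hmem _ hu, fun hcom => hc ?_⟩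
  rw [← lift_comp_hom] at hcom
  exact hφ (by simpa using hcom.eq)

/-- A witness shows that the word is not a law in the central quotient. -/
theorem Witness.not_law {w : FreeGroup ℕ} {H : Type*} [Group H] (h : Witness w H) :
    ∃ f : ℕ → H ⧸ Subgroup.center H, FreeGroup.lift f w ≠ 1 := by
  obtain ⟨f, u, -, -, hc⟩ := h
  refine ⟨fun i => QuotientGroup.mk' _ (f i), fun h => hc ?_⟩
  rw [← lift_comp_hom, QuotientGroup.mk'_apply, QuotientGroup.eq_one_iff,
    Subgroup.mem_center_iff] at h
  exact (h u).symm

/-- A witness shows that the word is not a law in the central quotient of the derived subgroup. -/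
theorem Witness.not_law_commutator {w : FreeGroup ℕ} {H : Type*} [Group H] (h : Witness w H) :
    ∃ f : ℕ → commutator H ⧸ Subgroup.center (commutator H), FreeGroup.lift f w ≠ 1 := by
  obtain ⟨f, u, hf, hu, hc⟩ := h
  let f' : ℕ → commutator H := fun i => ⟨f i, hf i⟩
  refine ⟨fun i => QuotientGroup.mk' _ (f' i), fun h => hc ?_⟩
  rw [← lift_comp_hom, QuotientGroup.mk'_apply, QuotientGroup.eq_one_iff,
    Subgroup.mem_center_iff] at h
  have := congrArg Subtype.val (h ⟨u, hu⟩)
  have hl : (commutator H).subtype (FreeGroup.lift f' w) = FreeGroup.lift f w :=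
    lift_comp_hom _ f' w
  simp only [Subgroup.coe_subtype] at hl
  simp only [Subgroup.coe_mul, hl] at this
  exact this.symm

theorem witness_alternating (w : FreeGroup ℕ) (hw : w ≠ 1) :
    ∃ N : ℕ, ∀ n : ℕ, N ≤ n → Witness w (alternatingGroup (Fin n)) := by
  obtain ⟨N, hN⟩ := alternating_nontrivial w hw
  refine ⟨max N 5, fun n hn => ?_⟩
  obtain ⟨f, hf⟩ := hN n (le_of_max_le_left hn)
  have h5 : 5 ≤ Nat.card (Fin n) := by simpa using le_of_max_le_right hn
  have hcenter := alternatingGroup.center_eq_bot (α := Fin n) (by omega)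
  have htop := commutator_alternatingGroup_eq_top (α := Fin n) h5
  by_contra hW
  apply hf
  rw [← Subgroup.mem_bot, ← hcenter, Subgroup.mem_center_iff]
  intro u
  by_contra hne
  exact hW ⟨f, u, fun i => by simp [htop], by simp [htop], fun h => hne h.eq.symm⟩

theorem witness_sl2 (w : FreeGroup ℕ) (hw : w ≠ 1) :
    ∃ N : ℕ, ∀ (F : Type*) [Field F] [Fintype F], N ≤ Fintype.card F →
      Witness w (Matrix.SpecialLinearGroup (Fin 2) F) := by
  classical
  obtain ⟨N, hN⟩ := sl2_nonscalar w hw
  refine ⟨max N 4, fun F _ _ hF => ?_⟩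
  obtain ⟨f, hf, hns⟩ := hN F (le_of_max_le_left hF)
  obtain ⟨a, ha⟩ : ∃ a : F, a ∉ ({0, 1, -1} : Finset F) := by
    suffices h : ({0, 1, -1} : Finset F).card < Finset.univ.card by
      by_contra! h'
      exact absurd (Finset.card_le_card (fun a _ => h' a : Finset.univ ⊆ _)) (by omega)
    calc ({0, 1, -1} : Finset F).card ≤ 3 := Finset.card_le_three
      _ < Finset.univ.card := by rw [Finset.card_univ]; have := le_of_max_le_right hF; omega
  simp only [Finset.mem_insert, Finset.mem_singleton, not_or] at ha
  have htop := Matrix.SL2.commutator_eq_top ha.1 (by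
    intro h
    rcases sq_eq_one_iff.1 h with h | h
    · exact ha.2.1 h
    · exact ha.2.2 h)
  have hcen : FreeGroup.lift f w ∉ Subgroup.center (Matrix.SpecialLinearGroup (Fin 2) F) := by
    rw [Matrix.SpecialLinearGroup.mem_center_iff]
    rintro ⟨r, -, hr⟩
    exact hns r (by rw [← hr, Matrix.smul_one_eq_diagonal]; rfl)
  simp only [Subgroup.mem_center_iff, not_forall] at hcen
  obtain ⟨u, hu⟩ := hcen
  exact ⟨f, u, hf, by simp [htop], fun h => hu h.eq.symm⟩

end CfsgLib.WordLaws
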