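import Mathlib
import Cfsg.Prelude.Def_Classical
import Cfsg.Agent.Lib.WordLaws.Witness

/-!
Embeddings of alternating groups and of `SL₂` in the classical groups of the Prelude, giving
word-law witnesses in all large classical groups.
-/

set_option autoImplicit false

namespace CfsgLib.WordLaws

open Matrix

/-- Extend a determinant-one matrix by an identity block. -/
def blockSL {ι κ μ : Type*} [Fintype ι] [DecidableEq ι] [Fintype κ] [DecidableEq κ] [Fintype μ]
    [DecidableEq μ] (F : Type*) [CommRing F] (e : ι ⊕ κ ≃ μ) :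
    Matrix.SpecialLinearGroup ι F →* Matrix.SpecialLinearGroup μ F where
  toFun A := ⟨Matrix.reindex e e (Matrix.fromBlocks (A : Matrix ι ι F) 0 0 1), by simp⟩
  map_one' := by
    apply Subtype.ext
    change Matrix.reindex e e (Matrix.fromBlocks (1 : Matrix ι ι F) 0 0 1) = 1
    simp
  map_mul' A B := by
    apply Subtype.ext
    change Matrix.reindex e e _ = Matrix.reindex e e _ * Matrix.reindex e e _
    simp [Matrix.reindex_apply, Matrix.submatrix_mul_equiv, Matrix.fromBlocks_multiply]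

theorem blockSL_injective {ι κ μ : Type*} [Fintype ι] [DecidableEq ι] [Fintype κ] [DecidableEq κ]
    [Fintype μ] [DecidableEq μ] (F : Type*) [CommRing F] (e : ι ⊕ κ ≃ μ) :
    Function.Injective (blockSL F e) := by
  intro A B h
  have h2 := (Matrix.reindex e e).injective (congrArg Subtype.val h)
  exact Subtype.ext (Matrix.fromBlocks_inj.1 h2).1

/-- Permutation matrices of even permutations. -/
def altSL (n : ℕ) (F : Type*) [CommRing F] :
    alternatingGroup (Fin n) →* Matrix.SpecialLinearGroup (Fin n) F where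
  toFun σ := ⟨Matrix.permMatrixHom (σ : Equiv.Perm (Fin n)), by
    rw [Matrix.permMatrixHom_apply, Matrix.det_permutation, Equiv.Perm.sign_inv, σ.2]
    simp⟩
  map_one' := by apply Subtype.ext; simp only [Subgroup.coe_one, map_one]; rfl
  map_mul' σ τ := by apply Subtype.ext; simp only [Subgroup.coe_mul, map_mul]; rfl

theorem altSL_injective (n : ℕ) (F : Type*) [CommRing F] [Nontrivial F] :
    Function.Injective (altSL n F) := by
  intro σ τ h
  have h2 : Equiv.Perm.permMatrix F (σ : Equiv.Perm (Fin n))⁻¹ =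
      Equiv.Perm.permMatrix F (τ : Equiv.Perm (Fin n))⁻¹ := congrArg Subtype.val h
  have h3 := PEquiv.toMatrix_injective h2
  refine Subtype.ext (inv_injective (Equiv.ext fun i => ?_))
  have := congrArg (fun f : Fin n ≃. Fin n => f i) h3
  simpa [Equiv.toPEquiv_apply] using this

/-- The Levi embedding of `SL_m` in the symplectic group of dimension `2m`. -/
def leviSp (m : ℕ) (F : Type*) [Field F] :
    Matrix.SpecialLinearGroup (Fin m) F →* Matrix.symplecticGroup (Fin m) F where
  toFun A := ⟨Matrix.fromBlocks (A : Matrix (Fin m) (Fin m) F) 0 0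
      (((A⁻¹ : Matrix.SpecialLinearGroup (Fin m) F) : Matrix (Fin m) (Fin m) F)ᵀ), by
    have h1 : ((A : Matrix (Fin m) (Fin m) F)) *
        ((A⁻¹ : Matrix.SpecialLinearGroup (Fin m) F) : Matrix (Fin m) (Fin m) F) = 1 := by
      rw [← Matrix.SpecialLinearGroup.coe_mul, mul_inv_cancel]; rfl
    rw [SymplecticGroup.mem_iff, Matrix.J, Matrix.fromBlocks_transpose, Matrix.fromBlocks_multiply,
      Matrix.fromBlocks_multiply]
    simp [-Matrix.SpecialLinearGroup.coe_inv, h1, ← Matrix.transpose_mul]⟩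
  map_one' := by apply Subtype.ext; simp
  map_mul' A B := by
    apply Subtype.ext
    simp only [Submonoid.coe_mul, Matrix.fromBlocks_multiply, _root_.mul_inv_rev,
      Matrix.SpecialLinearGroup.coe_mul, Matrix.transpose_mul]
    simp

theorem leviSp_injective (m : ℕ) (F : Type*) [Field F] : Function.Injective (leviSp m F) := by
  intro A B h
  exact Subtype.ext (Matrix.fromBlocks_inj.1 (congrArg Subtype.val h)).1

theorem mem_isometryGroup {ι : Type} [Fintype ι] [DecidableEq ι] {F : Type*} [Field F]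
    (Q : (ι → F) → F) (g : GL ι F) :
    g ∈ Cfsg.isometryGroup F Q ↔ ∀ u, Q ((g : Matrix ι ι F) *ᵥ u) = Q u :=
  ⟨fun h u => h u u, fun h u _ => h u⟩

/-- `diag (A, A⁻ᵀ)`. -/
def leviGL (m : ℕ) (F : Type*) [Field F] :
    Matrix.SpecialLinearGroup (Fin m) F →* Matrix (Fin m ⊕ Fin m) (Fin m ⊕ Fin m) F :=
  (Matrix.symplecticGroup (Fin m) F).subtype.comp (leviSp m F)

theorem leviGL_apply (m : ℕ) (F : Type*) [Field F] (A : Matrix.SpecialLinearGroup (Fin m) F)
    (v : Fin m ⊕ Fin m → F) :
    ∑ i : Fin m, (leviGL m F A *ᵥ v) (.inl i) * (leviGL m F A *ᵥ v) (.inr i) =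
      ∑ i : Fin m, v (.inl i) * v (.inr i) := by
  have hA : leviGL m F A = Matrix.fromBlocks (A : Matrix (Fin m) (Fin m) F) 0 0
      (((A⁻¹ : Matrix.SpecialLinearGroup (Fin m) F) : Matrix (Fin m) (Fin m) F)ᵀ) := rfl
  rw [hA, Matrix.fromBlocks_mulVec]
  simp only [Sum.elim_inl, Sum.elim_inr, Matrix.zero_mulVec, add_zero, zero_add]
  change _ ⬝ᵥ _ = (v ∘ Sum.inl) ⬝ᵥ (v ∘ Sum.inr)
  rw [Matrix.mulVec_transpose, dotProduct_comm, ← Matrix.dotProduct_mulVec,
    Matrix.mulVec_mulVec, ← Matrix.SpecialLinearGroup.coe_mul, inv_mul_cancel,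
    Matrix.SpecialLinearGroup.coe_one, Matrix.one_mulVec, dotProduct_comm]

/-- The Levi embedding of `SL_m` in the plus-type orthogonal group. -/
def leviPlus (m : ℕ) (F : Type*) [Field F] :
    Matrix.SpecialLinearGroup (Fin m) F →* Cfsg.isometryGroup F (Cfsg.quadFormPlus m F) :=
  (leviGL m F).toHomUnits.codRestrict _ fun A => by
    rw [mem_isometryGroup]
    exact fun u => leviGL_apply m F A u

theorem leviPlus_injective (m : ℕ) (F : Type*) [Field F] : Function.Injective (leviPlus m F) := by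
  intro A B h
  have h2 : leviGL m F A = leviGL m F B :=
    congrArg (fun g : Cfsg.isometryGroup F (Cfsg.quadFormPlus m F) =>
      ((g : GL (Fin m ⊕ Fin m) F) : Matrix (Fin m ⊕ Fin m) (Fin m ⊕ Fin m) F)) h
  exact leviSp_injective m F (Subtype.ext h2)

/-- `diag (A, A⁻ᵀ, 1)` with the identity block on `κ` on the right. -/
def leviRight (m : ℕ) (κ : Type) [Fintype κ] [DecidableEq κ] (F : Type*) [Field F] :
    Matrix.SpecialLinearGroup (Fin m) F →*
      Matrix ((Fin m ⊕ Fin m) ⊕ κ) ((Fin m ⊕ Fin m) ⊕ κ) F where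
  toFun A := Matrix.fromBlocks (leviGL m F A) 0 0 1
  map_one' := by simp
  map_mul' A B := by simp [Matrix.fromBlocks_multiply]

/-- The Levi embedding of `SL_m` in the minus-type orthogonal group. -/
def leviMinus (m : ℕ) (F : Type*) [Field F] (a b : F) :
    Matrix.SpecialLinearGroup (Fin m) F →* Cfsg.isometryGroup F (Cfsg.quadFormMinus m F a b) :=
  (leviRight m (Fin 2) F).toHomUnits.codRestrict _ fun A => by
    rw [mem_isometryGroup]
    intro u
    simp only [MonoidHom.coe_toHomUnits, leviRight, MonoidHom.coe_mk, OneHom.coe_mk,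
      Cfsg.quadFormMinus, Matrix.fromBlocks_mulVec, Sum.elim_inl, Sum.elim_inr,
      Matrix.zero_mulVec, add_zero, zero_add, Matrix.one_mulVec, Function.comp_apply]
    congr 1
    exact leviGL_apply m F A (u ∘ Sum.inl)

theorem leviMinus_injective (m : ℕ) (F : Type*) [Field F] (a b : F) :
    Function.Injective (leviMinus m F a b) := by
  intro A B h
  have h2 : leviRight m (Fin 2) F A = leviRight m (Fin 2) F B :=
    congrArg (fun g : Cfsg.isometryGroup F (Cfsg.quadFormMinus m F a b) =>
      ((g : GL ((Fin m ⊕ Fin m) ⊕ Fin 2) F) :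
        Matrix ((Fin m ⊕ Fin m) ⊕ Fin 2) ((Fin m ⊕ Fin m) ⊕ Fin 2) F)) h
  exact leviSp_injective m F (Subtype.ext (Matrix.fromBlocks_inj.1 h2).1)

/-- `diag (1, A, A⁻ᵀ)`. -/
def leviLeft (m : ℕ) (F : Type*) [Field F] :
    Matrix.SpecialLinearGroup (Fin m) F →*
      Matrix (Unit ⊕ (Fin m ⊕ Fin m)) (Unit ⊕ (Fin m ⊕ Fin m)) F where
  toFun A := Matrix.fromBlocks 1 0 0 (leviGL m F A)
  map_one' := by simp
  map_mul' A B := by simp [Matrix.fromBlocks_multiply]

/-- The Levi embedding of `SL_m` in the odd-dimensional orthogonal group. -/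
def leviOdd (m : ℕ) (F : Type*) [Field F] :
    Matrix.SpecialLinearGroup (Fin m) F →* Cfsg.isometryGroup F (Cfsg.quadFormOdd m F) :=
  (leviLeft m F).toHomUnits.codRestrict _ fun A => by
    rw [mem_isometryGroup]
    intro u
    simp only [MonoidHom.coe_toHomUnits, leviLeft, MonoidHom.coe_mk, OneHom.coe_mk,
      Cfsg.quadFormOdd, Matrix.fromBlocks_mulVec, Sum.elim_inl, Sum.elim_inr,
      Matrix.zero_mulVec, add_zero, zero_add, Matrix.one_mulVec, Function.comp_apply]
    congr 1
    exact leviGL_apply m F A (u ∘ Sum.inr)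

theorem leviOdd_injective (m : ℕ) (F : Type*) [Field F] : Function.Injective (leviOdd m F) := by
  intro A B h
  have h2 : leviLeft m F A = leviLeft m F B :=
    congrArg (fun g : Cfsg.isometryGroup F (Cfsg.quadFormOdd m F) =>
      ((g : GL (Unit ⊕ (Fin m ⊕ Fin m)) F) :
        Matrix (Unit ⊕ (Fin m ⊕ Fin m)) (Unit ⊕ (Fin m ⊕ Fin m)) F)) h
  exact leviSp_injective m F (Subtype.ext (Matrix.fromBlocks_inj.1 h2).2.2.2)

/-- A split block for `k ≤ n`. -/
noncomputable def splitEquiv {k n : ℕ} (h : k ≤ n) : Fin k ⊕ Fin (n - k) ≃ Fin n :=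
  finSumFinEquiv.trans (finCongr (Nat.add_sub_cancel' h))

/-- Witnesses in `SL_m` for large field or large dimension. -/
theorem witness_sl (w : FreeGroup ℕ) (hw : w ≠ 1) :
    ∃ N : ℕ, ∀ (F : Type*) [Field F] [Fintype F] (m : ℕ), 2 ≤ m →
      (N ≤ Fintype.card F ∨ N ≤ m) → Witness w (Matrix.SpecialLinearGroup (Fin m) F) := by
  obtain ⟨N₁, h₁⟩ := witness_sl2 w hw
  obtain ⟨N₂, h₂⟩ := witness_alternating w hw
  refine ⟨max N₁ N₂, fun F _ _ m hm hor => ?_⟩
  rcases hor with h | h
  · exact (h₁ F (le_of_max_le_left h)).map _ (blockSL_injective F (splitEquiv hm))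
  · exact (h₂ m (le_of_max_le_right h)).map _ (altSL_injective m F)

end CfsgLib.WordLaws
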