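import Mathlib
import Cfsg.Prelude.Def_Classical
import Cfsg.Agent.Lib.WordLaws.Classical

/-!
Embeddings of `SL₂` over the subfield and of alternating groups in the unitary groups.
-/

set_option autoImplicit false

namespace CfsgLib.WordLaws

open Matrix

theorem exists_pow_eq_of_isCyclic {U : Type*} [CommGroup U] [Finite U] [IsCyclic U] {d e : ℕ}
    (hd : Nat.card U = d * e) (a : U) (ha : a ^ e = 1) : ∃ x : U, x ^ d = a := by
  obtain ⟨g, hg⟩ := IsCyclic.exists_generator (α := U)
  obtain ⟨k, rfl⟩ := (mem_powers_iff_mem_zpowers.2 (hg a) : a ∈ Submonoid.powers g)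
  simp only [← pow_mul] at ha
  have h1 : d * e ∣ k * e := by
    rw [← hd, ← orderOf_eq_card_of_forall_mem_zpowers hg]
    exact orderOf_dvd_of_pow_eq_one ha
  have he : 0 < e := by
    rcases Nat.eq_zero_or_pos e with h | h
    · rw [h, mul_zero] at hd
      exact absurd hd Nat.card_pos.ne' 
    · exact h
  obtain ⟨j, rfl⟩ := (mul_dvd_mul_iff_right he.ne').1 h1
  exact ⟨g ^ j, by show (g ^ j) ^ d = g ^ (d * j); rw [← pow_mul, mul_comm]⟩

/-- Membership in `SU` from a matrix identity. -/
theorem mem_SU_of {F : Type*} [Field F] {n q : ℕ} (σ : F →+* F) (hσ : ∀ x, σ x = x ^ q)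
    (M : Matrix.SpecialLinearGroup (Fin n) F)
    (h : (M : Matrix (Fin n) (Fin n) F)ᵀ * (M : Matrix (Fin n) (Fin n) F).map σ = 1) :
    M ∈ Cfsg.SU n F q := by
  intro u v
  have hf : ∀ u v : Fin n → F, Cfsg.hermForm n F q u v = u ⬝ᵥ (σ ∘ v) := fun u v => by
    simp [Cfsg.hermForm, dotProduct, hσ]
  simp only [Cfsg.slToMat, MonoidHom.comp_apply, Units.coeHom_apply]
  change Cfsg.hermForm n F q ((M : Matrix (Fin n) (Fin n) F) *ᵥ u)
    ((M : Matrix (Fin n) (Fin n) F) *ᵥ v) = _
  rw [hf, hf]
  have h2 : σ ∘ ((M : Matrix (Fin n) (Fin n) F) *ᵥ v) =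
      (M : Matrix (Fin n) (Fin n) F).map σ *ᵥ (σ ∘ v) := by
    funext i; exact RingHom.map_mulVec σ _ v i
  rw [h2, Matrix.dotProduct_mulVec, Matrix.vecMul_mulVec, h, Matrix.vecMul_one]

theorem witness_su (w : FreeGroup ℕ) (hw : w ≠ 1) :
    ∃ N : ℕ, ∀ (F : Type*) [Field F] [Fintype F] (n q : ℕ), 2 ≤ n → Fintype.card F = q ^ 2 →
      (N ≤ q ∨ N ≤ n) → Witness w (Cfsg.SU n F q) := by
  classical
  obtain ⟨N₁, h₁⟩ := witness_sl2 w hw
  obtain ⟨N₂, h₂⟩ := witness_alternating w hw
  refine ⟨max (N₁ + 2) N₂, fun F _ _ n q hn hF hor => ?_⟩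
  obtain ⟨p, hp⟩ := CharP.exists F
  obtain ⟨a, hpp, ha⟩ := FiniteField.card F p
  have : Fact p.Prime := ⟨hpp⟩
  obtain ⟨j, -, hj⟩ := (Nat.dvd_prime_pow hpp).1 (show q ∣ p ^ (a : ℕ) by
    rw [← ha, hF]; exact dvd_pow_self q two_ne_zero)
  set σ : F →+* F := iterateFrobenius F p j
  have hσ : ∀ x, σ x = x ^ q := fun x => by rw [iterateFrobenius_def, hj]
  rcases hor with h | h
  swap
  · let φ : alternatingGroup (Fin n) →* Cfsg.SU n F q := (altSL n F).codRestrict _ fun τ => by
      refine mem_SU_of σ hσ _ ?_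
      have e1 : ((altSL n F τ : Matrix.SpecialLinearGroup (Fin n) F) : Matrix (Fin n) (Fin n) F) =
          Equiv.Perm.permMatrix F (τ : Equiv.Perm (Fin n))⁻¹ := rfl
      rw [e1, Matrix.transpose_permMatrix,
        show (Equiv.Perm.permMatrix F (τ : Equiv.Perm (Fin n))⁻¹).map σ =
          Equiv.Perm.permMatrix F (τ : Equiv.Perm (Fin n))⁻¹ from PEquiv.map_toMatrix σ _,
        ← Matrix.permMatrix_mul]
      simp
    exact (h₂ n (le_of_max_le_right h)).map φ fun x y hxy =>
      altSL_injective n F (congrArg Subtype.val hxy)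
  · have hq : N₁ + 2 ≤ q := le_of_max_le_left h
    have hcard : Nat.card Fˣ = q ^ 2 - 1 := by
      rw [Nat.card_eq_fintype_card, Fintype.card_units, hF]
    have hfac : q ^ 2 - 1 = (q + 1) * (q - 1) := by rw [← Nat.sq_sub_sq, one_pow]
    have hσσ : ∀ x, σ (σ x) = x := fun x => by
      rw [hσ, hσ, ← pow_mul, ← sq, ← hF, FiniteField.pow_card]
    -- signs
    have hneg : ∀ e, (q % 2 = 1 → Even e) → ((-1 : Fˣ)) ^ e = 1 := by
      intro e he
      rcases Nat.even_or_odd q with hq2 | hq2
      · have : ringChar F = 2 :=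
          (FiniteField.even_card_iff_char_two).2 (by rw [hF]; exact Nat.even_iff.1 (hq2.pow_of_ne_zero two_ne_zero))
        have : CharP F 2 := ringChar.of_eq this
        have h1 : (-1 : Fˣ) = 1 := Units.ext (by simp [CharTwo.neg_eq])
        rw [h1, one_pow]
      · exact (he (Nat.odd_iff.1 hq2)).neg_one_pow
    obtain ⟨cu, hcu⟩ := exists_pow_eq_of_isCyclic (hcard.trans hfac) (-1 : Fˣ)
      (hneg _ fun h => Nat.even_iff.2 (by omega))
    obtain ⟨hu, hhu⟩ := exists_pow_eq_of_isCyclic (d := q - 1) (e := q + 1)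
      (hcard.trans (hfac.trans (mul_comm _ _))) (-1 : Fˣ) (hneg _ fun h => Nat.even_iff.2 (by omega))
    obtain ⟨g, hg⟩ := IsCyclic.exists_generator (α := Fˣ)
    have hog : orderOf g = q ^ 2 - 1 := by rw [orderOf_eq_card_of_forall_mem_zpowers hg, hcard]
    set c : F := cu.1 with hcdef
    set c' : F := (cu * g ^ (q - 1) : Fˣ).1 with hc'def
    have hc : c * σ c = -1 := by
      rw [hσ, ← pow_succ', hcdef, ← Units.val_pow_eq_pow_val, hcu]; simp
    have hc' : c' * σ c' = -1 := by
      rw [hσ, ← pow_succ', hc'def, ← Units.val_pow_eq_pow_val, mul_pow, hcu, ← pow_mul,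
        mul_comm (q - 1), ← hfac, ← hog, pow_orderOf_eq_one]
      simp
    have hne : c' ≠ c := by
      intro he
      have h1 : g ^ (q - 1) = 1 := by
        have := Units.ext he
        simpa using this
      have h2 := Nat.le_of_dvd (by omega) (hog ▸ orderOf_dvd_of_pow_eq_one h1)
      rw [hfac] at h2
      nlinarith [Nat.sub_add_cancel (show 1 ≤ q by omega)]
    have hh0 : 1 + c * σ c' ≠ 0 := by
      intro h0
      apply hne
      have : c * σ c' = c * σ c := by rw [hc]; linear_combination h0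
      exact σ.injective (mul_left_cancel₀ (Units.ne_zero cu) this)
    set h : F := hu.1 with hhdef
    have hσh : σ h = -h := by
      rw [hσ, show q = q - 1 + 1 by omega, pow_succ, hhdef, ← Units.val_pow_eq_pow_val, hhu]
      simp
    set lam : F := σ (h / (1 + c * σ c')) with hlam
    have hlam' : σ lam * (1 + c * σ c') = h := by rw [hlam, hσσ, div_mul_cancel₀ _ hh0]
    let gm : Matrix (Fin 2) (Fin 2) F := !![1, lam; c, c' * lam]
    have hdet : gm.det ≠ 0 := by
      have : lam ≠ 0 := fun h0 => by rw [h0, map_zero, zero_mul] at hlam'; exact Units.ne_zero hu hlam'.symm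
      simp only [gm, Matrix.det_fin_two_of, one_mul]
      rw [show c' * lam - lam * c = (c' - c) * lam by ring]
      exact mul_ne_zero (sub_ne_zero.2 hne) this
    let G : GL (Fin 2) F := Matrix.GeneralLinearGroup.mkOfDetNeZero gm hdet
    let H : Matrix (Fin 2) (Fin 2) F := !![0, h; -h, 0]
    have hH : (G : Matrix (Fin 2) (Fin 2) F)ᵀ * (G : Matrix (Fin 2) (Fin 2) F).map σ = H := by
      have h3 : lam * (1 + c' * σ c) = -h := by
        rw [← hσh, ← hlam']; simp [map_mul, map_add, hσσ, mul_comm]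
      ext i j
      fin_cases i <;> fin_cases j <;>
        simp [G, H, gm, Matrix.GeneralLinearGroup.mkOfDetNeZero, Matrix.mul_apply, Fin.sum_univ_two]
      · rw [hc]; ring
      · linear_combination hlam'
      · linear_combination h3
      · linear_combination (lam * σ lam) * hc'
    let K : Subfield F := RingHom.eqLocusField σ (RingHom.id F)
    have hKσ : ∀ x : K, σ (x : F) = x := fun x => x.2
    have : Fintype K := Fintype.ofFinite _
    have hK : N₁ ≤ Fintype.card K := by
      have horder : orderOf (g ^ (q + 1)) = q - 1 := by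
        rw [orderOf_pow, hog, hfac, Nat.gcd_eq_right (Dvd.intro _ rfl)]
        exact Nat.mul_div_cancel_left _ (by omega)
      let ι : Fin (q - 1) → K := fun i => ⟨(((g ^ (q + 1)) ^ (i : ℕ) : Fˣ) : F), by
        show σ _ = ((((g ^ (q + 1)) ^ (i : ℕ)) : Fˣ) : F)
        rw [hσ, ← Units.val_pow_eq_pow_val]
        congr 1
        rw [← pow_mul, pow_eq_pow_iff_modEq, horder]
        have : q ≡ 1 [MOD q - 1] := by
          have h := Nat.ModEq.add_right 1 (Nat.modEq_zero_iff_dvd.2 (dvd_refl (q - 1)))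
          rwa [Nat.sub_add_cancel (by omega), zero_add] at h
        simpa using Nat.ModEq.mul_left (i : ℕ) this⟩
      have hι : Function.Injective ι := fun i j hij => by
        have e := pow_eq_pow_iff_modEq.1 (Units.ext (congrArg Subtype.val hij))
        rw [horder] at e
        exact Fin.ext (Nat.ModEq.eq_of_lt_of_lt e i.2 j.2)
      have := Fintype.card_le_of_injective ι hι
      rw [Fintype.card_fin] at this
      omega
    let ψ : Matrix.SpecialLinearGroup (Fin 2) K →* Matrix.SpecialLinearGroup (Fin 2) F :=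
      (conjSL G).comp (Matrix.SpecialLinearGroup.map K.subtype)
    have hψ : ∀ A, (ψ A : Matrix (Fin 2) (Fin 2) F)ᵀ * (ψ A : Matrix (Fin 2) (Fin 2) F).map σ = 1 := by
      intro A
      set a : Matrix (Fin 2) (Fin 2) F := (A : Matrix (Fin 2) (Fin 2) K).map K.subtype with hadef
      have hψA : (ψ A : Matrix (Fin 2) (Fin 2) F) =
          (G : Matrix (Fin 2) (Fin 2) F) * a * ((G⁻¹ : GL (Fin 2) F) : Matrix (Fin 2) (Fin 2) F) := rfl
      have haσ : a.map σ = a := by ext i j; exact hKσ _
      have hdetA : a.det = 1 := by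
        rw [hadef, ← RingHom.mapMatrix_apply, ← RingHom.map_det, A.2, map_one]
      have haH : aᵀ * H * a = H := by
        rw [Matrix.det_fin_two] at hdetA
        ext i k
        fin_cases i <;> fin_cases k <;> simp [H, Matrix.mul_apply, Fin.sum_univ_two]
        · ring
        · linear_combination h * hdetA
        · linear_combination (-h) * hdetA
        · ring
      rw [hψA, Matrix.map_mul, Matrix.map_mul, haσ, Matrix.transpose_mul, Matrix.transpose_mul]
      calc _ = ((G⁻¹ : GL (Fin 2) F) : Matrix (Fin 2) (Fin 2) F)ᵀ * (aᵀ *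
            ((G : Matrix (Fin 2) (Fin 2) F)ᵀ * (G : Matrix (Fin 2) (Fin 2) F).map σ) * a) *
            ((G⁻¹ : GL (Fin 2) F) : Matrix (Fin 2) (Fin 2) F).map σ := by simp only [mul_assoc]
        _ = 1 := by
          rw [hH, haH, ← hH, ← mul_assoc, ← Matrix.transpose_mul, Units.mul_inv, Matrix.transpose_one,
            one_mul, ← Matrix.map_mul, Units.mul_inv]
          simp
    let φ : Matrix.SpecialLinearGroup (Fin 2) K →* Cfsg.SU n F q :=
      ((blockSL F (splitEquiv hn)).comp ψ).codRestrict _ fun A => by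
        refine mem_SU_of σ hσ _ ?_
        change (Matrix.reindex (splitEquiv hn) (splitEquiv hn)
          (Matrix.fromBlocks (ψ A : Matrix (Fin 2) (Fin 2) F) 0 0 1))ᵀ *
          (Matrix.reindex (splitEquiv hn) (splitEquiv hn)
          (Matrix.fromBlocks (ψ A : Matrix (Fin 2) (Fin 2) F) 0 0 1)).map σ = 1
        rw [Matrix.reindex_apply, show ∀ X : Matrix (Fin 2 ⊕ Fin (n - 2)) (Fin 2 ⊕ Fin (n - 2)) F,
          (X.submatrix (splitEquiv hn).symm (splitEquiv hn).symm).map σ =
            (X.map σ).submatrix (splitEquiv hn).symm (splitEquiv hn).symm from fun _ => rfl]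
        simp [Matrix.submatrix_mul_equiv, Matrix.fromBlocks_transpose, Matrix.map_zero,
          Matrix.map_one, Matrix.fromBlocks_map, Matrix.fromBlocks_multiply, hψ]
    refine (h₁ K hK).map φ ?_
    intro A B hAB
    have h2 : ψ A = ψ B := blockSL_injective F _ (congrArg Subtype.val hAB)
    have h3 := congrArg (fun M : Matrix.SpecialLinearGroup (Fin 2) F =>
      ((G⁻¹ : GL (Fin 2) F) : Matrix (Fin 2) (Fin 2) F) * (M : Matrix (Fin 2) (Fin 2) F) *
        (G : Matrix (Fin 2) (Fin 2) F)) h2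
    have e : ∀ A, (ψ A : Matrix (Fin 2) (Fin 2) F) = (G : Matrix (Fin 2) (Fin 2) F) *
        (A : Matrix (Fin 2) (Fin 2) K).map K.subtype * ((G⁻¹ : GL (Fin 2) F) : Matrix (Fin 2) (Fin 2) F) :=
      fun _ => rfl
    simp only [e, mul_assoc, Units.inv_mul_cancel_left, Units.inv_mul, mul_one] at h3
    ext i k
    exact congrArg Subtype.val (Subtype.ext (congrFun (congrFun h3 i) k) :
      (A : Matrix (Fin 2) (Fin 2) K) i k = (B : Matrix (Fin 2) (Fin 2) K) i k)

end CfsgLib.WordLaws
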