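import Mathlib
import Cfsg.Prelude.Def_Classical
import Cfsg.Agent.Lib.WordLaws.Unitary

/-!
A bound on the orders of alternating and classical simple groups satisfying a given law.
-/

set_option autoImplicit false

namespace CfsgLib.WordLaws

open Matrix

/-- A large group in which the word has a witness cannot satisfy the law; transfer along an iso. -/
theorem law_elim {w : FreeGroup ℕ} {G Q : Type*} [Group G] [Group Q] (φ : G ≃* Q)
    (hlaw : ∀ f : ℕ → G, FreeGroup.lift f w = 1) (h : ∃ f : ℕ → Q, FreeGroup.lift f w ≠ 1) :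
    False := by
  obtain ⟨f, hf⟩ := h
  apply hf
  have := congrArg φ.toMonoidHom (hlaw fun i => φ.symm (f i))
  rw [lift_comp_hom, map_one] at this
  simpa using this

/-- Matrix groups of small dimension over small fields are small. -/
theorem card_quotient_le {F : Type*} [Field F] [Fintype F] {ι : Type} [Fintype ι] [DecidableEq ι]
    {S : Type*} [Group S] (N : Subgroup S) (ψ : S → Matrix ι ι F) (hψ : Function.Injective ψ)
    {q d : ℕ} (hq : Fintype.card F ≤ q) (hd : Fintype.card ι ≤ d) :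
    Nat.card (S ⧸ N) ≤ q ^ (d * d) := by
  classical
  have : Finite S := Finite.of_injective ψ hψ
  calc Nat.card (S ⧸ N) ≤ Nat.card S := Nat.card_le_card_of_surjective _ QuotientGroup.mk_surjective
    _ ≤ Nat.card (Matrix ι ι F) := Nat.card_le_card_of_injective ψ hψ
    _ = Fintype.card F ^ (Fintype.card ι * Fintype.card ι) := by
        rw [Nat.card_eq_fintype_card]
        change Fintype.card (ι → ι → F) = _
        rw [Fintype.card_fun, Fintype.card_fun, ← pow_mul]
    _ ≤ q ^ (d * d) := (Nat.pow_le_pow_left hq _).trans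
        (Nat.pow_le_pow_right (Fintype.card_pos.trans_le hq) (Nat.mul_le_mul hd hd))

/-- The orders of alternating and classical simple groups with a given law are bounded. -/
theorem classical_law_bound (w : FreeGroup ℕ) (hw : w ≠ 1) :
    ∃ N : ℕ, ∀ (G : Type*) [Group G] [Finite G],
      (Cfsg.IsAlternating G ∨ Cfsg.IsPSL G ∨ Cfsg.IsPSp G ∨ Cfsg.IsPSU G ∨ Cfsg.IsPOmegaOdd G ∨
          Cfsg.IsPOmegaPlus G ∨ Cfsg.IsPOmegaMinus G) →
      (∀ f : ℕ → G, FreeGroup.lift f w = 1) → Nat.card G ≤ N := by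
  obtain ⟨NA, hA⟩ := witness_alternating w hw
  obtain ⟨NS, hS⟩ := witness_sl.{0} w hw
  obtain ⟨NU, hU⟩ := witness_su.{0} w hw
  set B := ((max NS NU) ^ 2 + 2) ^ ((2 * max NS NU + 4) * (2 * max NS NU + 4))
  refine ⟨max B (NA.factorial), fun G _ _ hG hlaw => ?_⟩
  have key : ∀ {F : Type} [Field F] [Fintype F] {ι : Type} [Fintype ι] [DecidableEq ι]
      {S : Type} [Group S] (N : Subgroup S) (ψ : S → Matrix ι ι F), Function.Injective ψ →
      G ≃ S ⧸ N → Fintype.card F ≤ (max NS NU) ^ 2 + 2 →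
      Fintype.card ι ≤ 2 * max NS NU + 4 → Nat.card G ≤ max B (NA.factorial) := by
    intro F _ _ ι _ _ S _ N ψ hψ e hq hd
    rw [Nat.card_congr e]
    exact le_max_of_le_left (card_quotient_le N ψ hψ hq hd)
  have hsq : ∀ q, q < max NS NU → q ≤ (max NS NU) ^ 2 + 2 := fun q hq => by
    have := Nat.le_self_pow two_ne_zero (max NS NU); omega
  rcases hG with ⟨n, -, ⟨e⟩⟩ | ⟨F, _, _, n, hn, -, ⟨e⟩⟩ | ⟨F, _, _, m, hm, -, ⟨e⟩⟩ |
    ⟨F, _, _, n, q, hF, hn, -, ⟨e⟩⟩ | ⟨F, _, _, m, hm, -, ⟨e⟩⟩ | ⟨F, _, _, m, hm, ⟨e⟩⟩ |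
    ⟨F, _, _, m, a, b, hm, -, ⟨e⟩⟩
  · rcases le_or_gt NA n with h | h
    · exfalso
      obtain ⟨f, u, -, -, hc⟩ := hA n h
      exact law_elim e hlaw ⟨f, fun h1 => hc (by rw [h1]; exact Commute.one_left u)⟩
    · refine le_max_of_le_right ?_
      rw [Nat.card_congr e.toEquiv]
      calc Nat.card (alternatingGroup (Fin n)) ≤ Nat.card (Equiv.Perm (Fin n)) :=
            Subgroup.card_le_card_group _
        _ = n.factorial := by rw [Nat.card_eq_fintype_card, Fintype.card_perm, Fintype.card_fin]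
        _ ≤ NA.factorial := Nat.factorial_le h.le
  · by_cases h : NS ≤ Fintype.card F ∨ NS ≤ n
    · exact (law_elim e hlaw (hS F n hn h).not_law).elim
    · push Not at h
      exact key _ (fun A : Matrix.SpecialLinearGroup (Fin n) F => (A : Matrix (Fin n) (Fin n) F))
        (fun _ _ h => Subtype.ext h) e.toEquiv
        (hsq _ (h.1.trans_le (le_max_left _ _)))
        (by simp only [Fintype.card_fin]; omega)
  · by_cases h : NS ≤ Fintype.card F ∨ NS ≤ m
    · exact (law_elim e hlaw ((hS F m hm h).map _ (leviSp_injective m F)).not_law).elim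
    · push Not at h
      exact key _ (fun A : Matrix.symplecticGroup (Fin m) F =>
        (A : Matrix (Fin m ⊕ Fin m) (Fin m ⊕ Fin m) F))
        (fun _ _ h => Subtype.ext h) e.toEquiv (hsq _ (h.1.trans_le (le_max_left _ _)))
        (by simp only [Fintype.card_sum, Fintype.card_fin]; omega)
  · by_cases h : NU ≤ q ∨ NU ≤ n
    · exact (law_elim e hlaw (hU F n q (by omega) hF h).not_law).elim
    · push Not at h
      have hqN : q ^ 2 ≤ (max NS NU) ^ 2 + 2 := by
        have := Nat.pow_le_pow_left (h.1.le.trans (le_max_right NS NU)) 2; omega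
      exact key _ (fun A : Cfsg.SU n F q => ((A : Matrix.SpecialLinearGroup (Fin n) F) :
          Matrix (Fin n) (Fin n) F))
        (fun _ _ hAB => Subtype.ext (Subtype.ext hAB)) e.toEquiv (hF ▸ hqN)
        (by simp only [Fintype.card_fin]; omega)
  · by_cases h : NS ≤ Fintype.card F ∨ NS ≤ m
    · exact (law_elim e hlaw
        ((hS F m (by omega) h).map _ (leviOdd_injective m F)).not_law_commutator).elim
    · push Not at h
      exact key _ (fun A : Cfsg.Omega F (Cfsg.quadFormOdd m F) =>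
          (((A : Cfsg.isometryGroup F (Cfsg.quadFormOdd m F)) : GL (Unit ⊕ (Fin m ⊕ Fin m)) F) :
            Matrix (Unit ⊕ (Fin m ⊕ Fin m)) (Unit ⊕ (Fin m ⊕ Fin m)) F))
        (fun _ _ hAB => Subtype.ext (Subtype.ext (Units.ext hAB))) e.toEquiv
        (hsq _ (h.1.trans_le (le_max_left _ _)))
        (by simp only [Fintype.card_sum, Fintype.card_fin, Fintype.card_unit]; omega)
  · by_cases h : NS ≤ Fintype.card F ∨ NS ≤ m
    · exact (law_elim e hlaw
        ((hS F m (by omega) h).map _ (leviPlus_injective m F)).not_law_commutator).elim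
    · push Not at h
      exact key _ (fun A : Cfsg.Omega F (Cfsg.quadFormPlus m F) =>
          (((A : Cfsg.isometryGroup F (Cfsg.quadFormPlus m F)) : GL (Fin m ⊕ Fin m) F) :
            Matrix (Fin m ⊕ Fin m) (Fin m ⊕ Fin m) F))
        (fun _ _ hAB => Subtype.ext (Subtype.ext (Units.ext hAB))) e.toEquiv
        (hsq _ (h.1.trans_le (le_max_left _ _)))
        (by simp only [Fintype.card_sum, Fintype.card_fin]; omega)
  · by_cases h : NS ≤ Fintype.card F ∨ NS ≤ m - 1
    · exact (law_elim e hlaw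
        ((hS F (m - 1) (by omega) h).map _ (leviMinus_injective (m - 1) F a b)).not_law_commutator).elim
    · push Not at h
      exact key _ (fun A : Cfsg.Omega F (Cfsg.quadFormMinus (m - 1) F a b) =>
          (((A : Cfsg.isometryGroup F (Cfsg.quadFormMinus (m - 1) F a b)) :
            GL ((Fin (m - 1) ⊕ Fin (m - 1)) ⊕ Fin 2) F) :
            Matrix ((Fin (m - 1) ⊕ Fin (m - 1)) ⊕ Fin 2) ((Fin (m - 1) ⊕ Fin (m - 1)) ⊕ Fin 2) F))
        (fun _ _ hAB => Subtype.ext (Subtype.ext (Units.ext hAB))) e.toEquiv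
        (hsq _ (h.1.trans_le (le_max_left _ _)))
        (by simp only [Fintype.card_sum, Fintype.card_fin]; omega)

end CfsgLib.WordLaws
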