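import Mathlib
import Cfsg.Prelude.Def_Sz
import Cfsg.Agent.Lib.WordLaws.SL2

/-!
A non-trivial word is not a law in large Suzuki groups.
-/

set_option autoImplicit false

namespace CfsgLib.WordLaws

open Polynomial Matrix Cfsg.Lie

variable {F : Type*} [Field F] [CharP F 2]

/-- A lower unitriangular root element of the centre of a Sylow 2-subgroup. -/
def szZmat (e : ℕ) (b : F) : Matrix (Fin 4) (Fin 4) F :=
  !![1, 0, 0, 0; 0, 1, 0, 0; b, 0, 1, 0; b ^ e, b, 0, 1]

/-- The antidiagonal Weyl element. -/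
def szWmat (F : Type*) [Field F] : Matrix (Fin 4) (Fin 4) F :=
  !![0, 0, 0, 1; 0, 0, 1, 0; 0, 1, 0, 0; 1, 0, 0, 0]

/-- A torus element. -/
def szDmat (e : ℕ) (t : F) : Matrix (Fin 4) (Fin 4) F :=
  !![t ^ (e + 1), 0, 0, 0; 0, t, 0, 0; 0, 0, t⁻¹, 0; 0, 0, 0, (t ^ (e + 1))⁻¹]

theorem szZmat_sq (e : ℕ) (b : F) : szZmat e b * szZmat e b = 1 := by
  ext i j
  fin_cases i <;> fin_cases j <;>
    simp [szZmat, Matrix.mul_apply, Fin.sum_univ_four, CharTwo.add_self_eq_zero]

omit [CharP F 2] in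
theorem szWmat_sq : szWmat F * szWmat F = 1 := by
  ext i j
  fin_cases i <;> fin_cases j <;> simp [szWmat, Matrix.mul_apply, Fin.sum_univ_four]

omit [CharP F 2] in
theorem szDmat_mul (e : ℕ) {t : F} (ht : t ≠ 0) : szDmat e t * szDmat e t⁻¹ = 1 := by
  ext i j
  fin_cases i <;> fin_cases j <;> simp [szDmat, Matrix.mul_apply, Fin.sum_univ_four, ht]

/-- `szZmat` as an invertible matrix. -/
def szZ (e : ℕ) (b : F) : GL (Fin 4) F := ⟨szZmat e b, szZmat e b, szZmat_sq e b, szZmat_sq e b⟩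

/-- `szWmat` as an invertible matrix. -/
def szW (F : Type*) [Field F] [CharP F 2] : GL (Fin 4) F :=
  ⟨szWmat F, szWmat F, szWmat_sq, szWmat_sq⟩

/-- `szDmat` as an invertible matrix. -/
def szD (e : ℕ) (t : F) (ht : t ≠ 0) : GL (Fin 4) F :=
  ⟨szDmat e t, szDmat e t⁻¹, szDmat_mul e ht,
    by simpa using szDmat_mul e (inv_ne_zero ht)⟩

theorem szZ_mem {e : ℕ} (he0 : e ≠ 0) (he : ∀ x : F, (x ^ e) ^ e = x ^ 2) (b : F) :
    szZ e b ∈ Sz F e := by
  refine Subgroup.subset_closure ⟨?_, ?_⟩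
  · intro u v
    simp only [szZ, Units.coeHom_apply, altForm4, szZmat, Matrix.mulVec, dotProduct, Fin.sum_univ_four]
    simp
    ring_nf
    simp [CharTwo.two_eq_zero]
  · ext p r
    simp only [szZ, star4, Matrix.of_apply, Matrix.map_apply]
    fin_cases p <;> fin_cases r <;>
      simp [szZmat, pairOf, he0, he, CharTwo.sub_eq_add] <;> ring_nf <;> simp [CharTwo.two_eq_zero]

theorem szW_mem {e : ℕ} (he0 : e ≠ 0) : szW F ∈ Sz F e := by
  refine Subgroup.subset_closure ⟨?_, ?_⟩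
  · intro u v
    simp only [szW, Units.coeHom_apply, altForm4, szWmat, Matrix.mulVec, dotProduct, Fin.sum_univ_four]
    simp
    ring
  · ext p r
    simp only [szW, star4, Matrix.of_apply, Matrix.map_apply]
    fin_cases p <;> fin_cases r <;> simp [szWmat, pairOf, he0, CharTwo.sub_eq_add]

theorem szD_mem {e : ℕ} (he0 : e ≠ 0) (he : ∀ x : F, (x ^ e) ^ e = x ^ 2) (t : F) (ht : t ≠ 0) :
    szD e t ht ∈ Sz F e := by
  refine Subgroup.subset_closure ⟨?_, ?_⟩
  · intro u v
    simp only [szD, Units.coeHom_apply, altForm4, szDmat, Matrix.mulVec, dotProduct, Fin.sum_univ_four]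
    simp
    field_simp
  · have h2 : (t ^ (e + 1)) ^ e = t ^ (e + 1) * t := by
      have := he t
      rw [← pow_mul] at this
      rw [← pow_mul, add_mul, one_mul, pow_add, this]
      ring
    have h3 : t ^ e * t = t ^ (e + 1) := (pow_succ t e).symm
    ext p r
    simp only [szD, star4, Matrix.of_apply, Matrix.map_apply]
    fin_cases p <;> fin_cases r <;>
      simp [szDmat, pairOf, he0, inv_pow, h2, CharTwo.sub_eq_add] <;> field_simp <;> ring

/-- Exponents of the torus of a Suzuki group, scaled. -/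
def expSz (e : ℕ) : ExpData (Fin 4) where
  e := ![2 * e + 2, min (e + 2) (2 * e + 1), max e 1, 0]
  N := 2 * e + 2
  T := 0
  B := 3
  hT := by simp
  hB := by simp
  hpos := by intro k hk; fin_cases k <;> simp at hk ⊢
  hlt := by intro k hk; fin_cases k <;> simp at hk ⊢ <;> omega

theorem szD_eq {e : ℕ} (he0 : e ≠ 0) {t : F} (ht : t ≠ 0) :
    szDmat e t = (t ^ (e + 1))⁻¹ • Matrix.diagonal (fun k => t ^ (expSz e).e k) := by
  have : max e 1 = e := by omega
  have h1 : min (e + 2) (2 * e + 1) = e + 2 := by omega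
  ext i j
  fin_cases i <;> fin_cases j <;> simp [szDmat, expSz, this, h1] <;> field_simp <;> ring

/-- The element `d ^ e + d + 1` never vanishes. -/
theorem pow_add_self_add_one_ne {e : ℕ} (he : ∀ x : F, (x ^ e) ^ e = x ^ 2)
    (hadd : ∀ x y : F, (x + y) ^ e = x ^ e + y ^ e) (d : F) : d ^ e + d + 1 ≠ 0 := by
  intro h
  have h1 : d ^ e = d + 1 := by linear_combination h - (d + 1) * (CharTwo.two_eq_zero (R := F))
  have h2 : d ^ 2 = d := by
    rw [← he, h1, hadd, one_pow, h1]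
    linear_combination (CharTwo.two_eq_zero (R := F))
  have he0 : e ≠ 0 := by
    rintro rfl
    have := hadd 0 0
    simp [CharTwo.add_self_eq_zero] at this
  rcases mul_eq_zero.1 (show d * (d - 1) = 0 by linear_combination h2) with hd | hd
  · simp [hd, he0] at h
  · rw [sub_eq_zero] at hd
    simp [hd, CharTwo.add_self_eq_zero] at h

/-- A non-trivial word is not a law in large Suzuki groups. -/
theorem suzuki_nontrivial (w : FreeGroup ℕ) (hw : w ≠ 1) :
    ∃ N : ℕ, ∀ (F : Type*) [Field F] [Fintype F] (m : ℕ), N ≤ m →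
      Fintype.card F = 2 ^ (2 * m + 1) →
      ∃ f : ℕ → ↥(Sz F (2 ^ (m + 1))), FreeGroup.lift f w ≠ 1 := by
  classical
  set K := (wordGens w).sup id + 1
  refine ⟨K + 8 * w.toWord.length + 8, fun F _ _ m hm hF => ?_⟩
  obtain ⟨p, hp⟩ := CharP.exists F
  have : CharP F 2 := by
    obtain ⟨n, hpp, hn⟩ := FiniteField.card F p
    have h2 : p ∣ 2 := hpp.dvd_of_dvd_pow (n := 2 * m + 1) (by rw [← hF, hn]; exact dvd_pow_self _ n.ne_zero)
    rw [(Nat.prime_dvd_prime_iff_eq hpp Nat.prime_two).1 h2] at hp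
    exact hp
  set e := 2 ^ (m + 1) with hedef
  have he0 : e ≠ 0 := by positivity
  have he : ∀ x : F, (x ^ e) ^ e = x ^ 2 := by
    intro x
    have : x ^ (2 ^ (2 * m + 1)) = x := hF ▸ FiniteField.pow_card x
    calc (x ^ e) ^ e = (x ^ (2 ^ (2 * m + 1))) ^ 2 := by rw [← pow_mul, ← pow_mul, hedef]; ring_nf
      _ = x ^ 2 := by rw [this]
  have hadd : ∀ x y : F, (x + y) ^ e = x ^ e + y ^ e := fun x y => add_pow_char_pow x y (p := 2) (n := m + 1)
  have hbig : K ≤ 2 ^ (2 * m + 1) := by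
    have := @Nat.lt_two_pow_self (2 * m + 1); omega
  obtain ⟨φ⟩ : Nonempty (Fin K ↪ F) :=
    Function.Embedding.nonempty_of_card_le (by simpa [hF] using hbig)
  let b : ℕ → F := fun i => if h : i < K then φ ⟨i, h⟩ else 0
  let P : ℕ → GL (Fin 4) F := fun i => szZ e (b i) * szW F * szZ e 1
  have hPmem : ∀ i, P i ∈ Sz F e := fun i =>
    mul_mem (mul_mem (szZ_mem he0 he _) (szW_mem he0)) (szZ_mem he0 he _)
  have hP : Generic (expSz e) (wordGens w) P := by
    intro i hi j hj hij s s'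
    have hi' : i < K := Nat.lt_succ_of_le (Finset.le_sup (f := id) hi)
    have hj' : j < K := Nat.lt_succ_of_le (Finset.le_sup (f := id) hj)
    have hd : b i + b j ≠ 0 := by
      rw [Ne, CharTwo.add_eq_zero]
      simp only [b, dif_pos hi', dif_pos hj']
      exact fun h => hij (congrArg Fin.val (φ.injective h))
    have hde : b i ^ e + b j ^ e ≠ 0 := by rw [← hadd]; exact pow_ne_zero _ hd
    have hne := pow_add_self_add_one_ne he hadd (b i + b j)
    rw [hadd] at hne
    simp only [P, _root_.mul_inv_rev, Units.val_mul]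
    rw [show (((szZ e 1)⁻¹ : GL (Fin 4) F) : Matrix (Fin 4) (Fin 4) F) = szZmat e 1 from rfl,
      show (((szW F)⁻¹ : GL (Fin 4) F) : Matrix (Fin 4) (Fin 4) F) = szWmat F from rfl,
      show (((szZ e (b i))⁻¹ : GL (Fin 4) F) : Matrix (Fin 4) (Fin 4) F) = szZmat e (b i) from rfl]
    simp only [szZ, szW]
    cases s <;> cases s' <;>
      simp [corner, expSz, szZmat, szWmat, Matrix.mul_apply, Fin.sum_univ_four] <;>
      intro h0
    all_goals first
      | (apply hde; linear_combination (norm := (ring_nf <;> simp [CharTwo.two_eq_zero])) h0)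
      | (apply hne; linear_combination (norm := (ring_nf <;> simp [CharTwo.two_eq_zero])) h0)
  obtain ⟨q, hq, hdeg, hgood⟩ := exists_poly_nonscalar (expSz e) w hw P hP
  obtain ⟨t, ht, hev⟩ := exists_nonroot q hq _ hdeg (by
    rw [hF]
    have h1 : 8 * w.toWord.length + 8 < 2 ^ m := by
      have := @Nat.lt_two_pow_self m; omega
    have h2 : (expSz e).N = 2 * e + 2 := rfl
    rw [h2, hedef, pow_succ (2:ℕ) (2*m), pow_succ (2:ℕ) m, mul_comm 2 m, pow_mul]
    nlinarith)
  let f : ℕ → ↥(Sz F e) := fun i =>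
    ⟨P i * szD e t ht * (P i)⁻¹, mul_mem (mul_mem (hPmem i) (szD_mem he0 he t ht)) (inv_mem (hPmem i))⟩
  refine ⟨f, fun h => ?_⟩
  refine hgood t ht hev ↥(Sz F e) ((Units.coeHom _).comp (Sz F e).subtype) f
    (fun i _ => ⟨(t ^ (e + 1))⁻¹, ?_⟩) 1 ?_
  · simp only [f, MonoidHom.comp_apply, Subgroup.coe_subtype, Units.coeHom_apply, Units.val_mul]
    rw [show ((szD e t ht : GL (Fin 4) F) : Matrix (Fin 4) (Fin 4) F) = szDmat e t from rfl,
      szD_eq he0 ht, mul_smul_comm, smul_mul_assoc]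
  · rw [h]; simp

end CfsgLib.WordLaws
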